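import Cfsg.Agent.Lib.Spor.HeldRecog.HeSide.Letters

/-!
# An element fixing the base points is trivial

The orbit sizes along the base multiply to the order, so relators need checking at the seven base points only.
-/

set_option autoImplicit false

namespace CfsgLib.Spor.HeldRecog.HeSide

open CfsgLib.Spor.TC CfsgLib.Spor.Held MulAction

/-- The product of the orbit sizes shown times the pointwise stabiliser of the bases is at most the order. -/
theorem prod_mul_le {A : Act} {rels : List PowRel} (h : A.Valid rels) :
    ∀ (Ls : List Level) (earlier : List ℕ) (M : Subgroup (Equiv.Perm (Fin A.n))),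
      A.levelsOK Ls earlier = true →
      (∀ L ∈ Ls, ∀ x ∈ L.gens, (∀ b ∈ earlier, A.T x b = b) → h.perm x ∈ M) →
      ∀ g ∈ M, (∀ L ∈ Ls, ∀ c : Fin A.n, (c : ℕ) = L.base → g c = c) → g ≠ 1 →
      levelsProd Ls * 2 ≤ Nat.card M := by
  intro Ls
  induction Ls with
  | nil =>
    intro _ M _ _ g hg _ hg1
    rw [levelsProd, one_mul]
    haveI : Nontrivial M := ⟨⟨⟨g, hg⟩, 1, fun e => hg1 (congrArg Subtype.val e)⟩⟩
    exact Finite.one_lt_card
  | cons L Ls ih =>
    intro earlier M hok hM g hg hfixg hg1
    change (A.levelOK L earlier && A.levelsOK Ls (L.base :: earlier)) = true at hok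
    simp only [Bool.and_eq_true] at hok
    have hfix := levelOK_fixes A hok.1
    have hok1 := hok.1
    simp only [Act.levelOK, Bool.and_eq_true] at hok1
    obtain ⟨⟨⟨-, hbase⟩, -⟩, hrows⟩ := hok1
    let b : Fin A.n := ⟨L.base, Nat.le_of_ble_eq_true hbase⟩
    have hrow : ∀ i, i < L.size → L.rank (L.pt i) = i ∧ ∃ c : Fin A.n, (c : ℕ) = L.pt i ∧ c ∈ orbit M b := by
      intro i
      induction i using Nat.strong_induction_on with
      | _ i ihi =>
        intro hi
        have h1 := allFrom_spec hrows i (Nat.zero_le i) (by omega)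
        simp only [Act.rowOK, Bool.and_eq_true, Bool.or_eq_true] at h1
        refine ⟨Nat.eq_of_beq_eq_true h1.1, ?_⟩
        rcases h1.2 with ⟨-, hb⟩ | ⟨⟨hp, hl⟩, ht⟩
        · exact ⟨b, (Nat.eq_of_beq_eq_true hb).symm, mem_orbit_self b⟩
        · have hpi : L.parent i < i := Nat.le_of_ble_eq_true hp
          obtain ⟨-, c, hc, hco⟩ := ihi _ hpi (hpi.trans hi)
          have hs := memNat_spec hl
          refine ⟨h.perm (L.letter i) c, ?_, ?_⟩
          · rw [h.perm_apply (hfix _ hs).1, hc]
            exact Nat.eq_of_beq_eq_true ht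
          · obtain ⟨m, hm⟩ := hco
            exact ⟨⟨h.perm (L.letter i), hM L List.mem_cons_self _ hs (hfix _ hs).2⟩ * m,
              by rw [← hm]; exact mul_smul _ _ _⟩
    choose hrank pts hpts horb using hrow
    have horbit : L.size ≤ Nat.card (orbit M b) := by
      have hinj : Function.Injective fun i : Fin L.size => (⟨pts i i.2, horb i i.2⟩ : orbit M b) := by
        intro i j hij
        have h1 := congrArg (fun z : orbit M b => L.rank ((z : Fin A.n) : ℕ)) hij
        simp only [hpts, hrank i i.2, hrank j j.2] at h1
        exact Fin.ext h1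
      calc L.size = Nat.card (Fin L.size) := (Nat.card_fin _).symm
        _ ≤ _ := Nat.card_le_card_of_injective _ hinj
    have hlt : ∀ (Ls : List Level) (e : List ℕ), A.levelsOK Ls e = true → ∀ L ∈ Ls, ∀ x ∈ L.gens, x < A.K := by
      intro Ls
      induction Ls with
      | nil => intro _ _ L hL; simp at hL
      | cons L0 Ls ihl =>
        intro e he L hL x hx
        change (A.levelOK L0 e && A.levelsOK Ls (L0.base :: e)) = true at he
        simp only [Bool.and_eq_true] at he
        rcases List.mem_cons.1 hL with rfl | hL
        · exact (levelOK_fixes A he.1 x hx).1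
        · exact ihl _ he.2 L hL x hx
    have hgb : g b = b := hfixg L List.mem_cons_self b rfl
    have hstab : levelsProd Ls * 2 ≤ Nat.card (stabilizer M b) := by
      refine (ih (L.base :: earlier) ((stabilizer M b).map M.subtype) hok.2 (fun L' hL' x hx hfx => ?_) g
        ⟨⟨g, hg⟩, mem_stabilizer_iff.2 hgb, rfl⟩
        (fun L' hL' => hfixg L' (List.mem_cons_of_mem _ hL')) hg1).trans_eq
        (Subgroup.card_map_of_injective M.subtype_injective)
      refine ⟨⟨h.perm x, hM L' (List.mem_cons_of_mem _ hL') x hx fun c hc => hfx c (List.mem_cons_of_mem _ hc)⟩,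
        ?_, rfl⟩
      rw [SetLike.mem_coe, mem_stabilizer_iff]
      exact Fin.ext ((h.perm_apply (hlt Ls _ hok.2 L' hL' x hx) b).trans (hfx L.base List.mem_cons_self))
    calc levelsProd (L :: Ls) * 2 = L.size * (levelsProd Ls * 2) := by rw [levelsProd, mul_assoc]
      _ ≤ Nat.card (orbit M b) * Nat.card (stabilizer M b) := Nat.mul_le_mul horbit hstab
      _ = Nat.card M := by
          rw [← Nat.card_prod]
          exact Nat.card_congr (orbitProdStabilizerEquivGroup M b)

/-- In the Held group an element fixing the base points is trivial. -/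
theorem eq_one_of_fix (u : Pres ActH.act.k relsG)
    (hu : ∀ L ∈ ActH.bases, ∀ c : Fin ActH.act.n, (c : ℕ) = L.base → ActH.valid.rho u c = c) : u = 1 := by
  refine rho_injective_held ?_
  rw [map_one]
  by_contra hne
  haveI : Finite (Pres ActH.act.k relsG) := Nat.finite_of_card_ne_zero (ne_of_eq_of_ne card_held (by decide))
  have h1 := prod_mul_le ActH.valid ActH.bases [] ActH.valid.rho.range ActH.bases_ok
    (fun _ _ x _ _ => ⟨_, ActH.valid.rho_letters x⟩) _ ⟨u, rfl⟩ hu hne
  have h2 := Nat.card_le_card_of_surjective _ ActH.valid.rho.rangeRestrict_surjective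
  rw [card_held] at h2
  rw [show levelsProd ActH.bases = 4030387200 by decide +kernel] at h1
  omega

/-- A word in the seven letters, to a power, fixes the base points. -/
noncomputable def relBaseOK (r : PowRel) : Bool :=
  allBelow 7 r.1 &&
    List.rec (motive := fun _ => Bool) true (fun L _ ih => Nat.beq (xpow r.1 r.2 L.base) L.base && ih) ActH.bases

/-- All relators fix the base points. -/
noncomputable def relsBaseOK (rels : List PowRel) : Bool :=
  List.rec (motive := fun _ => Bool) true (fun r _ ih => relBaseOK r && ih) rels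

theorem rels_of_base : ∀ {rels : List PowRel}, relsBaseOK rels = true → ∀ r ∈ rels, ev heGen r.1 ^ r.2 = 1 := by
  intro rels
  induction rels with
  | nil => intro _ r hr; simp at hr
  | cons r₀ rels ih =>
    intro h r hr
    change (relBaseOK r₀ && relsBaseOK rels) = true at h
    simp only [Bool.and_eq_true] at h
    rcases List.mem_cons.1 hr with rfl | hr
    · have h0 := h.1
      unfold relBaseOK at h0
      rw [Bool.and_eq_true] at h0
      refine eq_one_of_fix _ fun L hL c hc => Fin.ext ?_
      rw [rho_pow (allBelow_spec h0.1), hc]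
      have key : ∀ Ls : List Level, List.rec (motive := fun _ => Bool) true
          (fun L _ ih => Nat.beq (xpow r.1 r.2 L.base) L.base && ih) Ls = true →
          ∀ L ∈ Ls, xpow r.1 r.2 L.base = L.base := by
        intro Ls
        induction Ls with
        | nil => intro _ L hL; simp at hL
        | cons L0 Ls ihl =>
          intro hok L hL
          change (Nat.beq (xpow r.1 r.2 L0.base) L0.base && _) = true at hok
          rw [Bool.and_eq_true] at hok
          rcases List.mem_cons.1 hL with rfl | hL
          · exact Nat.eq_of_beq_eq_true hok.1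
          · exact ihl hok.2 L hL
      exact key _ h0.2 L hL
    · exact ih h.2 r hr

/-- The seven letters satisfy relators that fix the base points. -/
theorem sat_heGen_base {rels : List PowRel} (h : relsBaseOK rels = true) : Sat 7 rels heGen :=
  ⟨heGen_sq, fun x hx => by rw [heGen, if_neg (Nat.not_lt.2 hx)], rels_of_base h⟩

end CfsgLib.Spor.HeldRecog.HeSide
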