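/-
Seven letters of the amalgam inside the presented Held group: the six generators of the centraliser of an
involution and one element of the intersection of the normalisers of the two elementary abelian groups.
Relations between them are checked on the `2058` cosets.
-/
import Cfsg.Agent.Lib.Spor.Held.Order
import Cfsg.Agent.Lib.Spor.HeldRecog.HeSide.Data

set_option autoImplicit false

namespace CfsgLib.Spor.HeldRecog.HeSide

open CfsgLib.Spor.TC CfsgLib.Spor.Held

/-- A word in the seven letters moving a coset. -/
noncomputable def xact (v : List ℕ) (c : ℕ) : ℕ :=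
  List.rec (motive := fun _ => ℕ) c (fun a _ ih => xT a ih) v

/-- A power of a word in the seven letters moving a coset. -/
noncomputable def xpow (v : List ℕ) (m c : ℕ) : ℕ :=
  Nat.rec (motive := fun _ => ℕ) c (fun _ ih => xact v ih) m

/-- The tables of the seven letters are those of their words. -/
noncomputable def tablesOK : Bool :=
  allFrom (fun c => allFrom (fun i => Nat.beq (ActH.act.wact (heWords.getD i []) c) (xT i c)) 0 7) 0 2058

/-- A word in the seven letters fixes all cosets after raising to a power. -/
noncomputable def relOK (r : PowRel) : Bool :=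
  allBelow 7 r.1 && allFrom (fun c => Nat.beq (xpow r.1 r.2 c) c) 0 2058

/-- All relators hold. -/
noncomputable def relsOK (rels : List PowRel) : Bool :=
  List.rec (motive := fun _ => Bool) true (fun r _ ih => relOK r && ih) rels

/-- A generator of the presented group is a word in the seven letters. -/
noncomputable def backOK (j : ℕ) : Bool :=
  allBelow 7 (backWords.getD j []) &&
    allFrom (fun c => Nat.beq (xact (backWords.getD j []) c) (ActH.act.T j c)) 0 2058

theorem tables_ok : tablesOK = true := by decide +kernel

theorem squares_ok : relsOK ((List.range 7).map fun i => ([i], 2)) = true := by decide +kernel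

theorem back_ok : allFrom backOK 0 7 = true := by decide +kernel

theorem heWords_below : ∀ i, i < 7 → ∀ x ∈ heWords.getD i [], x < 7 := by decide +kernel

/-- The seven letters in the presented Held group. -/
noncomputable def heGen (i : ℕ) : Pres ActH.act.k relsG :=
  if i < 7 then ev (presGen ActH.act.k relsG) (heWords.getD i []) else 1

theorem rho_word {w : List ℕ} (hw : ∀ x ∈ w, x < ActH.act.k) (c : Fin ActH.act.n) :
    (ActH.valid.rho (ev (presGen ActH.act.k relsG) w) c : ℕ) = ActH.act.wact w c := by
  rw [map_ev, ev_congr (g' := ActH.valid.perm) fun x hx => ?_,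
    ActH.valid.wact_eq fun x hx => lt_of_lt_of_le (hw x hx) (Nat.le_add_right _ _)]
  rw [ActH.valid.perm_of_lt (hw x hx)]
  exact presHom_gen ActH.valid.sat x

theorem rho_heGen {i : ℕ} (hi : i < 7) (c : Fin ActH.act.n) :
    (ActH.valid.rho (heGen i) c : ℕ) = xT i c := by
  rw [heGen, if_pos hi, rho_word (heWords_below i hi)]
  have h1 := allFrom_spec tables_ok c (Nat.zero_le _) (show (c : ℕ) < 0 + 2058 from by
    rw [Nat.zero_add]; exact c.2)
  exact Nat.eq_of_beq_eq_true (allFrom_spec h1 i (Nat.zero_le _) (by omega))

theorem rho_ev {v : List ℕ} : (∀ x ∈ v, x < 7) → ∀ c : Fin ActH.act.n,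
    (ActH.valid.rho (ev heGen v) c : ℕ) = xact v c := by
  induction v with
  | nil => intro _ c; simp [ev, xact]
  | cons a v ih =>
    intro hv c
    rw [ev_cons, map_mul, Equiv.Perm.mul_apply]
    show _ = xT a (xact v c)
    rw [← ih (fun x hx => hv x (List.mem_cons_of_mem _ hx)), rho_heGen (hv a List.mem_cons_self)]

theorem rho_pow {v : List ℕ} (hv : ∀ x ∈ v, x < 7) (m : ℕ) : ∀ c : Fin ActH.act.n,
    (ActH.valid.rho (ev heGen v ^ m) c : ℕ) = xpow v m c := by
  induction m with
  | zero => intro c; simp [xpow]
  | succ m ih =>
    intro c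
    rw [pow_succ', map_mul, Equiv.Perm.mul_apply, rho_ev hv, ih]
    rfl

theorem rel_of_ok {r : PowRel} (hr : relOK r = true) : ev heGen r.1 ^ r.2 = 1 := by
  simp only [relOK, Bool.and_eq_true] at hr
  refine rho_injective_held (Equiv.ext fun c => Fin.ext ?_)
  rw [rho_pow (allBelow_spec hr.1), map_one]
  exact Nat.eq_of_beq_eq_true (allFrom_spec hr.2 c (Nat.zero_le _) (show (c : ℕ) < 0 + 2058 from by
    rw [Nat.zero_add]; exact c.2))

theorem rels_of_ok : ∀ {rels : List PowRel}, relsOK rels = true → ∀ r ∈ rels, ev heGen r.1 ^ r.2 = 1 := by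
  intro rels
  induction rels with
  | nil => intro _ r hr; simp at hr
  | cons r₀ rels ih =>
    intro h r hr
    change (relOK r₀ && relsOK rels) = true at h
    simp only [Bool.and_eq_true] at h
    rcases List.mem_cons.1 hr with rfl | hr
    · exact rel_of_ok h.1
    · exact ih h.2 r hr

theorem heGen_sq (i : ℕ) : heGen i * heGen i = 1 := by
  by_cases hi : i < 7
  · have h := rels_of_ok squares_ok ([i], 2) (List.mem_map.2 ⟨i, List.mem_range.2 hi, rfl⟩)
    simpa [ev, pow_two] using h
  · rw [heGen, if_neg hi, one_mul]

/-- The seven letters satisfy whatever relators pass the check. -/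
theorem sat_heGen {rels : List PowRel} (h : relsOK rels = true) : Sat 7 rels heGen :=
  ⟨heGen_sq, fun x hx => by rw [heGen, if_neg (Nat.not_lt.2 hx)], rels_of_ok h⟩

theorem gen_back {j : ℕ} (hj : j < 7) :
    presGen ActH.act.k relsG j = ev heGen (backWords.getD j []) := by
  have h := allFrom_spec back_ok j (Nat.zero_le _) (by omega)
  simp only [backOK, Bool.and_eq_true] at h
  refine rho_injective_held (Equiv.ext fun c => Fin.ext ?_)
  rw [rho_ev (allBelow_spec h.1)]
  have h1 := Nat.eq_of_beq_eq_true (allFrom_spec h.2 c (Nat.zero_le _) (show (c : ℕ) < 0 + 2058 from by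
    rw [Nat.zero_add]; exact c.2))
  rw [h1]
  have h2 := rho_word (w := [j]) (fun x hx => by rw [List.mem_singleton.1 hx]; exact hj) c
  simpa [ev, Act.wact] using h2

theorem closure_heGen : Subgroup.closure (heGen '' Set.Iio 7) = ⊤ := by
  rw [eq_top_iff, ← closure_presGen ActH.act.k relsG, Subgroup.closure_le]
  rintro _ ⟨j, hj, rfl⟩
  rw [gen_back (show j < 7 from hj)]
  refine ev_mem fun x hx => Subgroup.subset_closure ⟨x, ?_, rfl⟩
  have h := allFrom_spec back_ok j (Nat.zero_le _) (by have : j < 7 := hj; omega)
  simp only [backOK, Bool.and_eq_true] at h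
  exact allBelow_spec h.1 x hx

/-- A group presented on seven letters whose relators pass the check maps onto the Held group. -/
theorem exists_surjective {rels : List PowRel} (h : relsOK rels = true) :
    ∃ f : Pres 7 rels →* Pres ActH.act.k relsG, Function.Surjective f ∧
      ∀ i, f (presGen 7 rels i) = heGen i :=
  ⟨presHom (sat_heGen h), presHom_surjective (sat_heGen h) closure_heGen, presHom_gen (sat_heGen h)⟩

end CfsgLib.Spor.HeldRecog.HeSide
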