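/-
A group isomorphic to the presented Held group contains `Sp₄(4):2`.
-/
import Cfsg.Agent.Lib.Spor.Held.Sp.Presented

set_option autoImplicit false

namespace CfsgLib.Spor.HeldRecog.HeSide

theorem sp_four_four_of_isoHe {G : Type*} [Group G] (hG : Cfsg.Spor.IsoHe G) :
    ∃ (H : Subgroup G) (N : Subgroup H) (K : Type) (_ : Field K) (_ : Fintype K),
      N.Normal ∧ N.index = 2 ∧ Fintype.card K = 4 ∧ Nonempty (N ≃* Matrix.symplecticGroup (Fin 2) K) := by
  obtain ⟨φ⟩ := hG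
  obtain ⟨N, K, iF, iK, hN, hidx, hK, ⟨s⟩⟩ := CfsgLib.Spor.Held.Sp.presented
  refine ⟨_, N.map (MulEquiv.subgroupMap φ.symm _).toMonoidHom, K, iF, iK,
    hN.map _ (MulEquiv.surjective _), ?_, hK, ⟨(((MulEquiv.subgroupMap φ.symm _).subgroupMap N).symm).trans s⟩⟩
  exact (Subgroup.index_map_equiv N (MulEquiv.subgroupMap φ.symm _)).trans hidx

end CfsgLib.Spor.HeldRecog.HeSide
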